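import Mathlib
import Groth.Agent.EGA41SymGr.Basic
import Groth.Agent.KoszulLib.DescentKinds

/-!
Locally quasi-regular ideals: finitely generated, projective conormal module, bijective canonical maps
from the symmetric powers.
-/

set_option autoImplicit false
set_option linter.style.haveILetI false

universe u v

open MvPolynomial

namespace Groth.Agent.QRegIdeal

open Groth.Agent.EGA41SymGr

section Poly

variable {A B : Type*} [CommRing A] [CommRing B] {σ τ : Type*}

/-- A linear form. -/
noncomputable def lin [Fintype τ] (c : τ → A) : MvPolynomial τ A := ∑ j, C (c j) * X j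

theorem lin_isHomogeneous [Fintype τ] (c : τ → A) : (lin c).IsHomogeneous 1 :=
  IsHomogeneous.sum _ _ _ fun j _ => (isHomogeneous_X A j).C_mul _

theorem eval_lin [Fintype τ] (c y : τ → A) : eval y (lin c) = ∑ j, c j * y j := by
  simp [lin, map_sum]

theorem map_lin [Fintype τ] (φ : A →+* B) (c : τ → A) :
    MvPolynomial.map φ (lin c) = lin fun j => φ (c j) := by
  simp [lin, map_sum]

theorem eval_aeval (L : σ → MvPolynomial τ A) (y : τ → A) (P : MvPolynomial σ A) :
    eval y (aeval L P) = eval (fun s => eval y (L s)) P := by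
  induction P using MvPolynomial.induction_on with
  | C a => simp
  | add p q hp hq => simp only [map_add, hp, hq]
  | mul_X p s hp => simp only [map_mul, hp, aeval_X, eval_X, MvPolynomial.map_X]

theorem map_aeval' (φ : A →+* B) (L : σ → MvPolynomial τ A) (P : MvPolynomial σ A) :
    MvPolynomial.map φ (aeval L P) = aeval (fun s => MvPolynomial.map φ (L s)) (MvPolynomial.map φ P) := by
  induction P using MvPolynomial.induction_on with
  | C a => simp
  | add p q hp hq => simp only [map_add, hp, hq]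
  | mul_X p s hp => simp only [map_mul, hp, aeval_X, eval_X, MvPolynomial.map_X]

theorem aeval_C_mul_of_isHomogeneous {n : ℕ} {P : MvPolynomial σ A} (hP : P.IsHomogeneous n) (a : A)
    (L : σ → MvPolynomial τ A) : aeval (fun s => C a * L s) P = C (a ^ n) * aeval L P := by
  rw [P.as_sum, map_sum, map_sum, Finset.mul_sum]
  refine Finset.sum_congr rfl fun d hd => ?_
  have hdeg : d.degree = n := by
    rw [Finsupp.degree_eq_weight_one]
    exact hP (mem_support_iff.mp hd)
  rw [aeval_monomial, aeval_monomial]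
  simp only [mul_pow, Finsupp.prod, Finset.prod_mul_distrib, ← C_pow]
  rw [← map_prod C, Finset.prod_pow_eq_pow_sum, show ∑ s ∈ d.support, d s = n from hdeg]
  ring

theorem eval_mul_of_isHomogeneous {n : ℕ} {P : MvPolynomial σ A} (hP : P.IsHomogeneous n) (a : A)
    (x : σ → A) : eval (fun s => a * x s) P = a ^ n * eval x P := by
  have h := congrArg (eval x) (aeval_C_mul_of_isHomogeneous hP a (X : σ → MvPolynomial σ A))
  simpa only [eval_aeval, map_mul, eval_C, eval_X, map_pow] using h

end Poly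

variable {R : Type u} [CommRing R] (J : Ideal R)

theorem eval_sub_eval_mem {σ : Type*} {n : ℕ} {P : MvPolynomial σ R} (hP : P.IsHomogeneous n) (u v : σ → R)
    (hu : ∀ s, u s ∈ J) (hv : ∀ s, v s ∈ J) (h : ∀ s, u s - v s ∈ J ^ 2) :
    eval u P - eval v P ∈ J ^ (n + 1) := by
  have hcard : Fintype.card (ULift.{u} (Fin n)) = n := by simp
  refine isHomogeneous_induction (ι := ULift.{u} (Fin n))
    (p := fun P => eval u P - eval v P ∈ J ^ (n + 1)) (by rw [hcard]; exact hP) (by simp)
    (fun a b ha hb => by rw [map_add, map_add, add_sub_add_comm]; exact add_mem ha hb) fun c w => ?_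
  rw [smul_eval, smul_eval, ← mul_sub, map_prod, map_prod]
  refine Ideal.mul_mem_left _ c ?_
  simpa using prod_sub_prod_mem J (fun i => u (w i)) (fun i => v (w i)) (fun i => hu _) (fun i => hv _)
    (fun i => h _) Finset.univ

theorem cot_eq_iff {a b : R} (ha : a ∈ J) (hb : b ∈ J) :
    J.toCotangent ⟨a, ha⟩ = J.toCotangent ⟨b, hb⟩ ↔ a - b ∈ J ^ 2 := Ideal.toCotangent_eq _

theorem cot_eq_zero_iff {a : R} (ha : a ∈ J) : J.toCotangent ⟨a, ha⟩ = 0 ↔ a ∈ J ^ 2 :=
  Ideal.toCotangent_eq_zero J ⟨a, ha⟩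

theorem toCotangent_sum {τ : Type*} (t : Finset τ) (c : τ → R) (y : τ → R) (hy : ∀ j, y j ∈ J)
    (h : ∑ j ∈ t, c j * y j ∈ J) :
    J.toCotangent ⟨_, h⟩ = ∑ j ∈ t, Ideal.Quotient.mk J (c j) • J.toCotangent ⟨y j, hy j⟩ := by
  have e : (⟨∑ j ∈ t, c j * y j, h⟩ : J) = ∑ j ∈ t, c j • (⟨y j, hy j⟩ : J) := by
    apply Subtype.ext
    simp
  rw [e, map_sum]
  exact Finset.sum_congr rfl fun j _ => by rw [map_smul]; rfl

/-- Coefficients of relations of a quasi-regular generating sequence are torsion. -/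
theorem exists_pow_mul_coeff_mem {g : R} {m : ℕ} (y : Fin m → R)
    (hspan : J.map (algebraMap R (Localization.Away g)) = Ideal.span (Set.range (algebraMap R (Localization.Away g) ∘ y)))
    (hq : CAlgX.IsQuasiRegular (algebraMap R (Localization.Away g) ∘ y))
    {n : ℕ} {Q : MvPolynomial (Fin m) R} (hQ : Q.IsHomogeneous n) (h : eval y Q ∈ J ^ (n + 1)) :
    ∃ N : ℕ, ∀ d, g ^ N * Q.coeff d ∈ J := by
  classical
  set φ := algebraMap R (Localization.Away g)
  have h1 : eval (φ ∘ y) (MvPolynomial.map φ Q) ∈ Ideal.span (Set.range (φ ∘ y)) ^ (n + 1) := by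
    rw [eval_map, ← eval₂_comp, ← hspan, ← Ideal.map_pow]
    exact Ideal.mem_map_of_mem φ h
  have h2 : ∀ d, φ (Q.coeff d) ∈ J.map φ := fun d => by
    have := hq n _ (hQ.map φ) h1 d
    rwa [coeff_map, ← hspan] at this
  have h3 : ∀ d, ∃ N : ℕ, g ^ N * Q.coeff d ∈ J := fun d => by
    obtain ⟨_, ⟨k, rfl⟩, hk⟩ :=
      (IsLocalization.algebraMap_mem_map_algebraMap_iff (Submonoid.powers g) (Localization.Away g) J _).1 (h2 d)
    exact ⟨k, hk⟩
  choose k hk using h3
  refine ⟨Q.support.sup k, fun d => ?_⟩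
  by_cases hd : d ∈ Q.support
  · obtain ⟨e, he⟩ := Nat.le.dest (Finset.le_sup (f := k) hd)
    rw [← he, pow_add, mul_comm (g ^ k d), mul_assoc]
    exact Ideal.mul_mem_left _ _ (hk d)
  · rw [notMem_support_iff.1 hd, mul_zero]
    exact J.zero_mem

/-- Conversely. -/
theorem isQuasiRegular_of_exists_pow {g : R} {m : ℕ} (y : Fin m → R)
    (hspan : J.map (algebraMap R (Localization.Away g)) = Ideal.span (Set.range (algebraMap R (Localization.Away g) ∘ y)))
    (h : ∀ (n : ℕ) (Q : MvPolynomial (Fin m) R), Q.IsHomogeneous n → eval y Q ∈ J ^ (n + 1) →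
      ∀ d, ∃ N : ℕ, g ^ N * Q.coeff d ∈ J) :
    CAlgX.IsQuasiRegular (algebraMap R (Localization.Away g) ∘ y) := by
  classical
  set φ := algebraMap R (Localization.Away g)
  intro n P hP hmem
  rw [← hspan] at hmem ⊢
  obtain ⟨b, hb⟩ := IsLocalization.exist_integer_multiples (Submonoid.powers g) P.support (fun d => P.coeff d)
  choose a ha using hb
  let Q : MvPolynomial (Fin m) R := ∑ d ∈ P.support.attach, monomial d.1 (a d.1 d.2)
  have hQ : Q.IsHomogeneous n := IsHomogeneous.sum _ _ _ fun d _ => isHomogeneous_monomial _ (by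
    rw [Finsupp.degree_eq_weight_one]
    exact hP (mem_support_iff.mp d.2))
  have hmap : MvPolynomial.map φ Q = C (φ b) * P := by
    conv_rhs => rw [P.as_sum, Finset.mul_sum, ← Finset.sum_attach P.support]
    rw [map_sum]
    refine Finset.sum_congr rfl fun d _ => ?_
    rw [map_monomial, C_mul_monomial, ha d.1 d.2, Algebra.smul_def]
  have h1 : φ (eval y Q) ∈ (J ^ (n + 1)).map φ := by
    have e : φ (eval y Q) = φ b * eval (φ ∘ y) P := by
      rw [eval₂_comp, ← eval_map, hmap, map_mul, eval_C]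
    rw [e, Ideal.map_pow]
    exact Ideal.mul_mem_left _ _ hmem
  obtain ⟨_, ⟨k, rfl⟩, hk⟩ :=
    (IsLocalization.algebraMap_mem_map_algebraMap_iff (Submonoid.powers g) (Localization.Away g) _ _).1 h1
  intro d
  obtain ⟨N, hN⟩ := h n (C (g ^ k) * Q) (hQ.C_mul _) (by rw [map_mul, eval_C]; exact hk) d
  have h2 : φ (g ^ N * g ^ k) * (φ b * P.coeff d) ∈ J.map φ := by
    have := Ideal.mem_map_of_mem φ hN
    rwa [coeff_C_mul, ← mul_assoc, map_mul _ _ (Q.coeff d), ← coeff_map, hmap, coeff_C_mul] at this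
  have hu : IsUnit (φ (g ^ N * g ^ k) * φ b) := by
    refine (IsUnit.mul ?_ (IsLocalization.map_units (Localization.Away g) b))
    exact IsLocalization.map_units (Localization.Away g) (⟨g ^ N * g ^ k, N + k, pow_add g N k⟩ : Submonoid.powers g)
  rw [← mul_assoc] at h2
  exact (Ideal.unit_mul_mem_iff_mem _ hu).1 h2

section Local

variable {J}

/-- Minimal local generators. -/
theorem exists_minimal_gens (hJ : J.FG) (P : Ideal R) [P.IsPrime] :
    ∃ (m : ℕ) (y : Fin m → R) (g : R), g ∉ P ∧ (∀ j, y j ∈ J) ∧ (∀ z ∈ J, g * z ∈ Ideal.span (Set.range y)) ∧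
      ∀ a : Fin m → R, ∑ j, a j * y j ∈ P * J → ∀ j, a j ∈ P := by
  classical
  have hex : ∃ m : ℕ, ∃ (y : Fin m → R) (g : R), g ∉ P ∧ (∀ j, y j ∈ J) ∧ ∀ z ∈ J, g * z ∈ Ideal.span (Set.range y) := by
    obtain ⟨S, hS⟩ := hJ
    refine ⟨S.card, fun j => (S.equivFin.symm j : R), 1, fun h => Ideal.IsPrime.ne_top' ((Ideal.eq_top_iff_one P).2 h),
      fun j => hS ▸ Ideal.subset_span (S.equivFin.symm j).2, fun z hz => ?_⟩
    rw [one_mul]
    rw [← hS] at hz
    refine Ideal.span_mono ?_ hz
    exact fun s hs => ⟨S.equivFin ⟨s, hs⟩, by simp⟩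
  obtain ⟨y, g, hg, hy, hgen⟩ := Nat.find_spec hex
  refine ⟨Nat.find hex, y, g, hg, hy, hgen, fun a ha i => ?_⟩
  by_contra hi
  obtain ⟨m', hm'⟩ : ∃ m', Nat.find hex = m' + 1 := ⟨Nat.find hex - 1, by have := i.2; omega⟩
  refine Nat.find_min hex (m := m') (by omega) ?_
  let e : Fin (m' + 1) ≃ Fin (Nat.find hex) := finCongr hm'.symm
  let y' : Fin m' → R := fun j => y (e ((e.symm i).succAbove j))
  set L := Localization.AtPrime P
  set φ := algebraMap R L
  set K := (Ideal.span (Set.range y')).map φ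
  have hyi : φ (y i) ∈ K ⊔ IsLocalRing.maximalIdeal L • J.map φ := by
    have h1 : φ (∑ j, a j * y j) ∈ IsLocalRing.maximalIdeal L • J.map φ := by
      rw [smul_eq_mul, ← Localization.AtPrime.map_eq_maximalIdeal, ← Ideal.map_mul]
      exact Ideal.mem_map_of_mem φ ha
    have hrest : ∀ j, j ≠ i → φ (a j * y j) ∈ K := fun j hj => by
      refine Ideal.mem_map_of_mem φ (Ideal.mul_mem_left _ _ (Ideal.subset_span ?_))
      obtain ⟨k, hk⟩ := Fin.exists_succAbove_eq (x := e.symm j) (y := e.symm i) (fun h => hj (e.symm.injective h))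
      exact ⟨k, by show y (e _) = _; rw [hk, Equiv.apply_symm_apply]⟩
    have hu : IsUnit (φ (a i)) := IsLocalization.map_units L (⟨a i, hi⟩ : P.primeCompl)
    rw [← Ideal.unit_mul_mem_iff_mem _ hu, ← map_mul,
      show a i * y i = ∑ j, a j * y j - ∑ j ∈ Finset.univ.erase i, a j * y j by
        rw [← Finset.add_sum_erase _ _ (Finset.mem_univ i)]; ring, map_sub, map_sum _ _ (Finset.univ.erase i)]
    exact sub_mem (Ideal.mem_sup_right h1)
      (sum_mem fun j hj => Ideal.mem_sup_left (hrest j (Finset.ne_of_mem_erase hj)))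
  have hle : J.map φ ≤ K ⊔ IsLocalRing.maximalIdeal L • J.map φ := by
    refine Ideal.map_le_iff_le_comap.2 fun z hz => ?_
    have hu : IsUnit (φ g) := IsLocalization.map_units L (⟨g, hg⟩ : P.primeCompl)
    rw [Ideal.mem_comap, ← Ideal.unit_mul_mem_iff_mem _ hu, ← map_mul, ← Ideal.mem_comap]
    refine (Ideal.span_le (I := Ideal.comap φ (K ⊔ IsLocalRing.maximalIdeal L • J.map φ))).2 ?_ (hgen z hz)
    rintro _ ⟨j, rfl⟩
    show φ (y j) ∈ K ⊔ IsLocalRing.maximalIdeal L • J.map φ
    by_cases hj : j = i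
    · exact hj ▸ hyi
    · obtain ⟨k, hk⟩ := Fin.exists_succAbove_eq (x := e.symm j) (y := e.symm i) (fun h => hj (e.symm.injective h))
      refine Ideal.mem_sup_left (Ideal.mem_map_of_mem φ (Ideal.subset_span ⟨k, ?_⟩))
      show y (e _) = _
      rw [hk, Equiv.apply_symm_apply]
  have hnak : J.map φ ≤ K := Submodule.le_of_le_smul_of_le_jacobson_bot (hJ.map φ)
    (IsLocalRing.maximalIdeal_le_jacobson _) hle
  obtain ⟨S, hS⟩ := hJ
  have hc : ∀ z ∈ S, ∃ c, c ∉ P ∧ c * z ∈ Ideal.span (Set.range y') := fun z hz => by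
    obtain ⟨c, hc, hcz⟩ := (IsLocalization.algebraMap_mem_map_algebraMap_iff P.primeCompl L _ _).1
      (hnak (Ideal.mem_map_of_mem φ (hS ▸ Ideal.subset_span hz)))
    exact ⟨c, hc, hcz⟩
  choose c hc hcz using hc
  refine ⟨y', ∏ z ∈ S.attach, c z.1 z.2, fun h => ?_, fun j => hy _, fun z hz => ?_⟩
  · obtain ⟨z, -, hz⟩ := Ideal.IsPrime.prod_mem_iff.1 h
    exact hc _ _ hz
  · rw [← hS] at hz
    induction hz using Submodule.span_induction with
    | mem w hw =>
      exact Ideal.mem_of_dvd _ (mul_dvd_mul_right (Finset.dvd_prod_of_mem _ (Finset.mem_attach S ⟨w, hw⟩)) w) (hcz w hw)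
    | zero => simp
    | add a b _ _ ha hb => rw [mul_add]; exact add_mem ha hb
    | smul r a _ ha => rw [smul_eq_mul, mul_left_comm]; exact Ideal.mul_mem_left _ _ ha

end Local

variable {σ : Type u} [Fintype σ]

/-- The presentation of the conormal module given by generators. -/
noncomputable def pres (x : σ → J) : (σ →₀ R ⧸ J) →ₗ[R] J.Cotangent :=
  (Finsupp.linearCombination (R ⧸ J) fun s => J.toCotangent (x s)).restrictScalars R

theorem pres_apply (x : σ → J) (v : σ →₀ R ⧸ J) : pres J x v = ∑ s, v s • J.toCotangent (x s) := by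
  rw [pres, LinearMap.restrictScalars_apply, Finsupp.linearCombination_apply, Finsupp.sum_fintype]
  exact fun s => zero_smul _ _

theorem linQ_eq_lin (v : σ →₀ R ⧸ J) : linQ J v = lin v := by
  rw [linQ, LinearMap.restrictScalars_apply, Finsupp.linearCombination_apply, Finsupp.sum_fintype]
  · exact Finset.sum_congr rfl fun s _ => MvPolynomial.smul_eq_C_mul _ _
  · exact fun s => zero_smul _ _

theorem exists_coeffs {τ : Type*} [Fintype τ] (x : τ → R) {z : R} (hz : z ∈ Ideal.span (Set.range x)) :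
    ∃ c : τ → R, ∑ j, c j * x j = z := by
  obtain ⟨c, hc⟩ := Submodule.mem_span_range_iff_exists_fun R |>.1 hz
  exact ⟨c, by simpa using hc⟩

/-- Sufficiency, near a prime. -/
theorem exists_away_of_qreg (x : σ → J) (hxs : Ideal.span (Set.range fun s => (x s : R)) = J)
    (f : J.Cotangent →ₗ[R] (σ →₀ R ⧸ J)) (hrf : ∀ z, pres J x (f z) = z)
    (hQ : QReg J f (pres J x) fun s => (x s : R)) (P : Ideal R) [P.IsPrime] (hJP : J ≤ P) :
    ∃ g : R, g ∉ P ∧ ∃ (m : ℕ) (h : Fin m → Localization.Away g),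
      CAlgX.IsQuasiRegular h ∧ Ideal.span (Set.range h) = J.map (algebraMap R (Localization.Away g)) := by
  classical
  obtain ⟨m, y, g, hg, hy, hgen, hind⟩ := exists_minimal_gens (J := J)
    (hxs ▸ Submodule.fg_span (Set.finite_range _)) P
  choose d hd using fun s => exists_coeffs y (hgen _ (x s).2)
  -- coordinates of the new generators
  let ℓ : Fin m → σ →₀ R ⧸ J := fun j => f (J.toCotangent ⟨y j, hy j⟩)
  choose c hc using fun j s => Ideal.Quotient.mk_surjective (ℓ j s)
  have hyc : ∀ j, y j - ∑ s, c j s * (x s : R) ∈ J ^ 2 := fun j => by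
    have hmem : ∑ s, c j s * (x s : R) ∈ J := sum_mem fun s _ => Ideal.mul_mem_left _ _ (x s).2
    rw [← cot_eq_iff J (hy j) hmem, toCotangent_sum J _ _ _ (fun s => (x s).2) hmem]
    conv_lhs => rw [← hrf (J.toCotangent ⟨y j, hy j⟩), pres_apply]
    exact Finset.sum_congr rfl fun s _ => by rw [hc]
  let E : Matrix (Fin m) (Fin m) R := fun j k => ∑ s, c j s * d s k
  have hEy : ∀ j, ∑ k, E j k * y k = g * ∑ s, c j s * (x s : R) := fun j => by
    simp only [E, Finset.sum_mul, Finset.mul_sum]
    rw [Finset.sum_comm]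
    refine Finset.sum_congr rfl fun s _ => ?_
    simp only [mul_assoc, ← Finset.mul_sum, hd s]
    ring
  have hEP : ∀ j k, E j k - (if j = k then g else 0) ∈ P := fun j k => by
    refine hind (fun k => E j k - (if j = k then g else 0)) ?_ k
    simp only [sub_mul, ite_mul, zero_mul, Finset.sum_sub_distrib, hEy, Finset.sum_ite_eq, Finset.mem_univ, if_true,
      ← mul_sub]
    refine Ideal.mul_mem_left _ _ ((Ideal.mul_mono hJP le_rfl) ?_)
    have := neg_mem (hyc j)
    rwa [neg_sub, sq] at this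
  have hdet : E.det ∉ P := fun h => by
    have h0 : (Ideal.Quotient.mk P) E.det = 0 := Ideal.Quotient.eq_zero_iff_mem.2 h
    rw [RingHom.map_det, show (Ideal.Quotient.mk P).mapMatrix E = Matrix.scalar (Fin m) (Ideal.Quotient.mk P g) from ?_,
      Matrix.scalar_apply, Matrix.det_diagonal, Finset.prod_const] at h0
    · exact hg (Ideal.Quotient.eq_zero_iff_mem.1 (eq_zero_of_pow_eq_zero h0))
    · ext j k
      rw [RingHom.mapMatrix_apply, Matrix.map_apply, Matrix.scalar_apply, Matrix.diagonal_apply,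
        Ideal.Quotient.eq.2 (hEP j k)]
      split_ifs <;> simp
  set g' := g * E.det
  have hspan : J.map (algebraMap R (Localization.Away g')) =
      Ideal.span (Set.range (algebraMap R (Localization.Away g') ∘ y)) := by
    refine le_antisymm (Ideal.map_le_iff_le_comap.2 fun z hz => ?_) (Ideal.span_le.2 ?_)
    · have hu : IsUnit (algebraMap R (Localization.Away g') g) := by
        have := IsLocalization.Away.algebraMap_isUnit (S := Localization.Away g') g'
        rw [map_mul] at this
        exact isUnit_of_mul_isUnit_left this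
      rw [Ideal.mem_comap, ← Ideal.unit_mul_mem_iff_mem _ hu, ← map_mul, Set.range_comp, ← Ideal.map_span]
      exact Ideal.mem_map_of_mem _ (hgen z hz)
    · rintro _ ⟨j, rfl⟩
      exact Ideal.mem_map_of_mem _ (hy j)
  refine ⟨g', fun h => ((inferInstance : P.IsPrime).mem_or_mem h).elim hg hdet, m, _, ?_, hspan.symm⟩
  refine isQuasiRegular_of_exists_pow J y hspan fun n Q hQn hmem e => ⟨n, ?_⟩
  let π := Ideal.Quotient.mk J
  -- substitute the coordinates
  have hP' : (aeval (fun j => lin (c j)) Q).IsHomogeneous n := by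
    simpa using hQn.aeval (n := 1) _ fun j => lin_isHomogeneous (c j)
  have hmem' : eval (fun s => (x s : R)) (aeval (fun j => lin (c j)) Q) ∈ J ^ (n + 1) := by
    rw [eval_aeval]
    simp only [eval_lin]
    have h1 := eval_sub_eval_mem J hQn y (fun j => ∑ s, c j s * (x s : R)) hy
      (fun j => sum_mem fun s _ => Ideal.mul_mem_left _ _ (x s).2) hyc
    exact (Submodule.sub_mem_iff_right _ hmem).1 h1
  have h2 : aeval (fun j => linQ J (ℓ j)) (MvPolynomial.map π Q) = 0 := by
    have := hQ n _ hP' hmem'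
    rw [map_aeval'] at this
    rw [← AlgHom.comp_apply, comp_aeval] at this
    refine Eq.trans ?_ this
    congr 2
    funext j
    have hl : MvPolynomial.map π (lin (c j)) = linQ J (ℓ j) := by
      rw [map_lin, linQ_eq_lin]
      congr 1
      funext s
      exact hc j s
    show linQ J (ℓ j) = pr J f (pres J x) (MvPolynomial.map π (lin (c j)))
    rw [hl, pr_linQ]
    exact congrArg (linQ J) (congrArg f (hrf _)).symm
  -- go back to the new variables
  let Eb : Matrix (Fin m) (Fin m) (R ⧸ J) := E.map π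
  have h3 : aeval (fun j => lin (Eb j)) (MvPolynomial.map π Q) = 0 := by
    have := congrArg (aeval fun s => lin fun k => π (d s k)) h2
    rw [map_zero, ← AlgHom.comp_apply, comp_aeval] at this
    refine Eq.trans ?_ this
    congr 2
    funext j
    rw [linQ_eq_lin]
    simp only [lin, map_sum, map_mul, aeval_C, aeval_X, algebraMap_eq, Finset.mul_sum, Eb, E, Matrix.map_apply,
      Finset.sum_mul, ← hc j, mul_assoc, π]
    rw [Finset.sum_comm]
  have h4 : C (Eb.det ^ n) * MvPolynomial.map π Q = 0 := by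
    have := congrArg (aeval fun k => lin (Eb.adjugate k)) h3
    rw [map_zero, ← AlgHom.comp_apply, comp_aeval] at this
    refine Eq.trans ?_ this
    rw [← aeval_X_left_apply (MvPolynomial.map π Q), ← aeval_C_mul_of_isHomogeneous (hQn.map π)]
    rw [aeval_X_left_apply]
    congr 2
    funext j
    simp only [lin, map_sum, map_mul, aeval_C, aeval_X, algebraMap_eq, Finset.mul_sum]
    rw [Finset.sum_comm]
    have hmul : ∀ k, ∑ l, Eb j l * Eb.adjugate l k = if j = k then Eb.det else 0 := fun k => by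
      rw [← Matrix.mul_apply, Matrix.mul_adjugate, Matrix.smul_apply, Matrix.one_apply, smul_eq_mul, mul_ite,
        mul_one, mul_zero]
    simp only [← mul_assoc, ← C_mul, ← Finset.sum_mul, ← map_sum C, hmul, apply_ite C, C_0, ite_mul, zero_mul,
      Finset.sum_ite_eq, Finset.mem_univ, if_true]
  have h5 : π (g' ^ n * Q.coeff e) = 0 := by
    have := congrArg (coeff e) h4
    rw [coeff_C_mul, coeff_map, coeff_zero] at this
    have hde : Eb.det = π E.det := (RingHom.map_det π E).symm
    rw [hde, ← map_pow, ← map_mul] at this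
    rw [mul_pow, mul_assoc, map_mul, this, mul_zero]
  exact Ideal.Quotient.eq_zero_iff_mem.1 h5

theorem pAt_all (h : PP16.IsLocallyQuasiRegular R J) (Q : Ideal R) [Q.IsPrime] :
    KoszulLib.PAt (fun {R} [CommRing R] {_} f => CAlgX.IsQuasiRegular f) J Q := by
  by_cases hle : J ≤ Q
  · obtain ⟨g, hg, r, f, hf, hspan⟩ := h Q hle
    exact KoszulLib.pAt_of_away KoszulLib.goodSeq_quasi hg (Localization.Away g) hf hspan.symm
  · obtain ⟨g, hgI, hg⟩ := SetLike.not_le_iff_exists.1 hle
    have htop : J.map (algebraMap R (Localization.Away g)) = ⊤ :=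
      Ideal.eq_top_of_isUnit_mem _ (Ideal.mem_map_of_mem _ hgI) (IsLocalization.Away.algebraMap_isUnit g)
    have hs : Ideal.span (Set.range fun _ : Fin 1 => (1 : Localization.Away g)) = ⊤ :=
      Ideal.eq_top_of_isUnit_mem _ (Ideal.subset_span ⟨0, rfl⟩) isUnit_one
    exact KoszulLib.pAt_of_away KoszulLib.goodSeq_quasi hg (Localization.Away g)
      (f := fun _ : Fin 1 => (1 : Localization.Away g)) (fun n p _ _ d => by rw [hs]; trivial) (by rw [htop, hs])

theorem fg_of_isLocallyQuasiRegular (h : PP16.IsLocallyQuasiRegular R J) : J.FG :=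
  KoszulLib.pAt_fg (P := fun {R} [CommRing R] {_} f => CAlgX.IsQuasiRegular f) fun Q => pAt_all J h Q.asIdeal

/-- Everything we use from local generators near a prime. -/
theorem exists_local_data (x : σ → J) (h : PP16.IsLocallyQuasiRegular R J) (P : Ideal R) [P.IsPrime] :
    ∃ (g : R) (m : ℕ) (y : Fin m → R) (hy : ∀ j, y j ∈ J) (k : ℕ) (c : σ → Fin m → R), g ∉ P ∧
      (∀ s, ∑ j, c s j * y j = g ^ k * (x s : R)) ∧
      ∀ (n : ℕ) (Q : MvPolynomial (Fin m) R), Q.IsHomogeneous n → eval y Q ∈ J ^ (n + 1) →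
        ∃ N : ℕ, ∀ d, g ^ N * Q.coeff d ∈ J := by
  classical
  obtain ⟨g, hg, m, y, hy, hspan, hq⟩ := pAt_all J h P
  have hmem : ∀ s, ∃ k : ℕ, g ^ k * (x s : R) ∈ Ideal.span (Set.range y) := fun s => by
    have := Ideal.mem_map_of_mem (algebraMap R (Localization.Away g)) (x s).2
    rw [hspan, Set.range_comp, ← Ideal.map_span,
      IsLocalization.algebraMap_mem_map_algebraMap_iff (Submonoid.powers g)] at this
    obtain ⟨_, ⟨k, rfl⟩, hk⟩ := this
    exact ⟨k, hk⟩
  choose k hk using hmem
  have hK : ∀ s, g ^ (Finset.univ.sup k) * (x s : R) ∈ Ideal.span (Set.range y) := fun s => by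
    obtain ⟨e, he⟩ := Nat.le.dest (Finset.le_sup (f := k) (Finset.mem_univ s))
    rw [← he, pow_add, mul_comm (g ^ k s), mul_assoc]
    exact Ideal.mul_mem_left _ _ (hk s)
  choose c hc using fun s => exists_coeffs y (hK s)
  exact ⟨g, m, y, hy, _, c, hg, hc, fun n Q hQ hQm => exists_pow_mul_coeff_mem J y hspan hq hQ hQm⟩

theorem linearCombination_coord {τ : Type*} [Fintype τ] {M : Type*} [AddCommGroup M] [Module (R ⧸ J) M]
    (v : τ → M) (w : τ → R ⧸ J) : Fintype.linearCombination (R ⧸ J) v w = ∑ j, w j • v j :=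
  Fintype.linearCombination_apply _ _ _

/-- Necessity of projectivity. -/
theorem exists_section (x : σ → J) (hxs : Ideal.span (Set.range fun s => (x s : R)) = J)
    (h : PP16.IsLocallyQuasiRegular R J) :
    ∃ f : J.Cotangent →ₗ[R ⧸ J] (σ →₀ R ⧸ J),
      ∀ z, Finsupp.linearCombination (R ⧸ J) (fun s => J.toCotangent (x s)) (f z) = z := by
  classical
  set π := Ideal.Quotient.mk J
  let rr : (σ →₀ R ⧸ J) →ₗ[R ⧸ J] J.Cotangent := Finsupp.linearCombination (R ⧸ J) fun s => J.toCotangent (x s)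
  have hsurj : Function.Surjective rr := fun z => by
    obtain ⟨⟨a, ha⟩, rfl⟩ := J.toCotangent_surjective z
    have ha' : a ∈ Ideal.span (Set.range fun s => (x s : R)) := by rw [hxs]; exact ha
    obtain ⟨c, rfl⟩ := exists_coeffs _ ha'
    refine ⟨Finsupp.equivFunOnFinite.symm fun s => π (c s), ?_⟩
    rw [toCotangent_sum J _ _ _ (fun s => (x s).2) ha, Finsupp.linearCombination_apply, Finsupp.sum_fintype]
    · rfl
    · exact fun s => zero_smul _ _
  -- the local maps
  have hloc : ∀ (P : Ideal R) [P.IsPrime], ∃ (g : R) (k m : ℕ) (Φ : (σ →₀ R ⧸ J) →ₗ[R ⧸ J] (Fin m → R ⧸ J))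
      (ε : (Fin m → R ⧸ J) →ₗ[R ⧸ J] (σ →₀ R ⧸ J)), g ∉ P ∧ (∀ v, rr (ε (Φ v)) = π g ^ k • rr v) ∧
      ∀ w, rr (ε w) = 0 → ∃ N : ℕ, π g ^ N • w = 0 := by
    intro P _
    obtain ⟨g, m, y, hy, k, c, hg, hc, htor⟩ := exists_local_data J x h P
    choose e he using fun j => hsurj (J.toCotangent ⟨y j, hy j⟩)
    have hψ : ∀ w : Fin m → R ⧸ J, rr (Fintype.linearCombination (R ⧸ J) e w) =
        ∑ j, w j • J.toCotangent ⟨y j, hy j⟩ := fun w => by
      rw [linearCombination_coord, map_sum]
      exact Finset.sum_congr rfl fun j _ => by rw [map_smul, he]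
    refine ⟨g, k, m, Finsupp.linearCombination (R ⧸ J) fun s j => π (c s j),
      Fintype.linearCombination (R ⧸ J) e, hg, fun v => ?_, fun w hw => ?_⟩
    · induction v using Finsupp.induction_linear with
      | zero => simp
      | add a b ha hb => simp only [map_add, smul_add, ha, hb]
      | single s a =>
        rw [Finsupp.linearCombination_single, map_smul, map_smul, hψ, Finsupp.linearCombination_single,
          smul_comm (π g ^ k) a]
        congr 1
        have hmem : ∑ j, c s j * y j ∈ J := sum_mem fun j _ => Ideal.mul_mem_left _ _ (hy j)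
        rw [← toCotangent_sum J Finset.univ (c s) y hy hmem, ← map_pow]
        show _ = (g ^ k) • J.toCotangent (x s)
        rw [← map_smul]
        exact congrArg J.toCotangent (Subtype.ext (hc s))
    · rw [hψ] at hw
      choose a ha using fun j => Ideal.Quotient.mk_surjective (w j)
      have hmem : ∑ j, a j * y j ∈ J := sum_mem fun j _ => Ideal.mul_mem_left _ _ (hy j)
      have h2 : ∑ j, a j * y j ∈ J ^ 2 := by
        rw [← cot_eq_zero_iff J hmem, toCotangent_sum J _ _ _ hy hmem]
        simpa only [ha] using hw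
      obtain ⟨N, hN⟩ := htor 1 (lin a) (lin_isHomogeneous a) (by rw [eval_lin]; exact h2)
      refine ⟨N, funext fun j => ?_⟩
      have hj := hN (Finsupp.single j 1)
      have hcoeff : (lin a).coeff (Finsupp.single j 1) = a j := by
        simp [lin, coeff_sum, coeff_C_mul, coeff_X', Finsupp.single_left_inj]
      rw [hcoeff, ← Ideal.Quotient.eq_zero_iff_mem, map_mul, map_pow, ha] at hj
      exact hj
  choose g k m Φ ε hg hΦ htor using fun P : PrimeSpectrum R => hloc P.asIdeal
  let D : ∀ P : PrimeSpectrum R, (σ →₀ R ⧸ J) →ₗ[R ⧸ J] (σ →₀ R ⧸ J) :=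
    fun P => ε P ∘ₗ Φ P - π (g P) ^ k P • LinearMap.id
  have hD : ∀ P v, rr (D P v) = 0 := fun P v => by
    simp only [D, LinearMap.sub_apply, LinearMap.comp_apply, LinearMap.smul_apply, LinearMap.id_apply, map_sub,
      map_smul, hΦ, sub_self]
  -- the relations are finitely generated
  have hKfg : (LinearMap.ker rr).FG := by
    obtain ⟨T, hT⟩ : ∃ T : Finset (PrimeSpectrum R), Ideal.span (g '' (T : Set (PrimeSpectrum R))) = ⊤ := by
      have htop : Ideal.span (Set.range g) = ⊤ := by
        by_contra hne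
        obtain ⟨M, hM, hle⟩ := Ideal.exists_le_maximal _ hne
        exact hg ⟨M, hM.isPrime⟩ (hle (Ideal.subset_span ⟨_, rfl⟩))
      obtain ⟨T, hTs, hT⟩ := Submodule.mem_span_finite_of_mem_span
        (show (1 : R) ∈ Submodule.span R (Set.range g) by rw [← Ideal.span, htop]; trivial)
      choose P hP using fun t : T => hTs t.2
      refine ⟨Finset.univ.image P, (Ideal.eq_top_iff_one _).2 (Ideal.span_mono ?_ hT)⟩
      exact fun t ht => ⟨P ⟨t, ht⟩, by simp, hP ⟨t, ht⟩⟩
    have heq : LinearMap.ker rr = T.sup fun P => LinearMap.range (D P) := by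
      refine le_antisymm (fun v hv => ?_) (Finset.sup_le fun P _ => ?_)
      · have hrad : Ideal.span (g '' (T : Set (PrimeSpectrum R))) ≤
            (((T.sup fun P => LinearMap.range (D P)).colon {v}).comap π).radical := by
          rw [Ideal.span_le]
          rintro _ ⟨P, hP, rfl⟩
          obtain ⟨N, hN⟩ := htor P (Φ P v) (by rw [hΦ, LinearMap.mem_ker.1 hv, smul_zero])
          refine ⟨N + k P, ?_⟩
          rw [Ideal.mem_comap, map_pow, Submodule.mem_colon_singleton]
          refine Finset.le_sup (f := fun P => LinearMap.range (D P)) hP ⟨-(π (g P) ^ N • v), ?_⟩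
          simp only [map_neg, D, LinearMap.sub_apply, LinearMap.comp_apply, LinearMap.smul_apply, LinearMap.id_apply,
            map_smul]
          rw [smul_sub, ← map_smul (ε P), hN, map_zero, zero_sub, neg_neg, smul_smul, pow_add]
        rw [hT, top_le_iff, Ideal.radical_eq_top, Ideal.eq_top_iff_one, Ideal.mem_comap, map_one,
          Submodule.mem_colon_singleton, one_smul] at hrad
        exact hrad
      · rintro _ ⟨v, rfl⟩
        exact LinearMap.mem_ker.2 (hD P v)
    rw [heq]
    exact Submodule.fg_finset_sup _ _ fun P _ => Module.Finite.iff_fg.1 inferInstance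
  -- patch the sections
  let 𝔞 : Ideal (R ⧸ J) :=
    { carrier := {a | ∃ f : J.Cotangent →ₗ[R ⧸ J] (σ →₀ R ⧸ J), ∀ z, rr (f z) = a • z}
      add_mem' := fun ⟨f₁, h₁⟩ ⟨f₂, h₂⟩ => ⟨f₁ + f₂, fun z => by rw [LinearMap.add_apply, map_add, h₁, h₂, add_smul]⟩
      zero_mem' := ⟨0, fun z => by simp⟩
      smul_mem' := fun c _ ⟨f₁, h₁⟩ => ⟨c • f₁, fun z => by rw [LinearMap.smul_apply, map_smul, h₁, smul_smul]; rfl⟩ }
  suffices h1 : (1 : R ⧸ J) ∈ 𝔞 by
    obtain ⟨f, hf⟩ := h1
    exact ⟨f, fun z => (hf z).trans (one_smul _ z)⟩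
  rw [← Ideal.eq_top_iff_one]
  by_contra hne
  obtain ⟨M, hM, hle⟩ := Ideal.exists_le_maximal _ hne
  let P : PrimeSpectrum R := ⟨M.comap π, Ideal.IsPrime.comap π⟩
  obtain ⟨S, hS⟩ := hKfg
  have hS0 : ∀ v ∈ S, ∃ N : ℕ, π (g P) ^ N • Φ P v = 0 := fun v hv => htor P _ (by
    rw [hΦ, LinearMap.mem_ker.1 (hS ▸ Submodule.subset_span hv), smul_zero])
  choose N hN using hS0
  let L := S.attach.sup fun v => N v.1 v.2
  have hkill : LinearMap.ker rr ≤ LinearMap.ker (π (g P) ^ L • Φ P) := by
    rw [← hS, Submodule.span_le]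
    intro v hv
    have hle : N v hv ≤ L := Finset.le_sup (f := fun v : {a // a ∈ S} => N v.1 v.2) (Finset.mem_attach S ⟨v, hv⟩)
    obtain ⟨e, he⟩ := Nat.le.dest hle
    rw [SetLike.mem_coe, LinearMap.mem_ker, LinearMap.smul_apply,
      ← he, add_comm, pow_add, mul_smul, hN v hv, smul_zero]
  let θ := (LinearMap.ker rr).liftQ (π (g P) ^ L • Φ P) hkill ∘ₗ
    (rr.quotKerEquivOfSurjective hsurj).symm.toLinearMap
  have hθ : ∀ v, θ (rr v) = π (g P) ^ L • Φ P v := fun v => by
    simp only [θ, LinearMap.comp_apply, LinearEquiv.coe_coe, LinearMap.quotKerEquivOfSurjective_symm_apply,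
      Submodule.liftQ_apply, LinearMap.smul_apply]
  have hmem : π (g P) ^ (L + k P) ∈ 𝔞 := ⟨ε P ∘ₗ θ, fun z => by
    obtain ⟨v, rfl⟩ := hsurj z
    rw [LinearMap.comp_apply, hθ, map_smul, map_smul, hΦ, smul_smul, pow_add]⟩
  exact hg P (hM.isPrime.mem_of_pow_mem _ (hle hmem))

/-- Necessity of injectivity. -/
theorem qreg_of_local (x : σ → J) (h : PP16.IsLocallyQuasiRegular R J)
    (f : J.Cotangent →ₗ[R ⧸ J] (σ →₀ R ⧸ J)) :
    QReg J (f.restrictScalars R) (pres J x) fun s => (x s : R) := by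
  classical
  intro n P hP hmem
  set π := Ideal.Quotient.mk J
  set F := pr J (f.restrictScalars R) (pres J x) (MvPolynomial.map π P)
  refine MvPolynomial.ext _ _ fun e => ?_
  rw [coeff_zero]
  by_contra hne
  obtain ⟨M, hM, hle⟩ := Ideal.exists_le_maximal ((Submodule.span R ({coeff e F} : Set (R ⧸ J))).annihilator) (by
    intro htop
    apply hne
    have h1 : (1 : R) ∈ (Submodule.span R ({coeff e F} : Set (R ⧸ J))).annihilator := by rw [htop]; trivial
    rw [Submodule.mem_annihilator_span_singleton, one_smul] at h1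
    exact h1)
  haveI := hM.isPrime
  obtain ⟨g, m, y, hy, k, c, hg, hc, htor⟩ := exists_local_data J x h M
  obtain ⟨N, hN⟩ := htor n (aeval (fun s => lin (c s)) P)
    (by simpa using hP.aeval (n := 1) _ fun s => lin_isHomogeneous (c s)) (by
      rw [eval_aeval]
      simp only [eval_lin, hc]
      rw [eval_mul_of_isHomogeneous hP]
      exact Ideal.mul_mem_left _ _ hmem)
  have h0 : C (π g ^ N) * MvPolynomial.map π (aeval (fun s => lin (c s)) P) = 0 := by
    refine MvPolynomial.ext _ _ fun d => ?_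
    rw [coeff_C_mul, coeff_map, coeff_zero, ← map_pow, ← map_mul, Ideal.Quotient.eq_zero_iff_mem]
    exact hN d
  let ℓ : Fin m → σ →₀ R ⧸ J := fun j => f (J.toCotangent ⟨y j, hy j⟩)
  have hsub : ∀ s, aeval (fun j => linQ J (ℓ j)) (MvPolynomial.map π (lin (c s))) =
      C (π g ^ k) * linQ J (f (pres J x (Finsupp.single s 1))) := by
    intro s
    have hmem : ∑ j, c s j * y j ∈ J := sum_mem fun j _ => Ideal.mul_mem_left _ _ (hy j)
    have e1 : ∑ j, π (c s j) • ℓ j = π g ^ k • f (pres J x (Finsupp.single s 1)) := by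
      simp only [ℓ, ← map_smul, ← map_sum]
      congr 1
      rw [← toCotangent_sum J Finset.univ (c s) y hy hmem, pres, LinearMap.restrictScalars_apply,
        Finsupp.linearCombination_single, one_smul, ← map_pow]
      show _ = (g ^ k) • J.toCotangent (x s)
      rw [← map_smul]
      exact congrArg J.toCotangent (Subtype.ext (hc s))
    have e2 : ∀ (a : R ⧸ J) (v : σ →₀ R ⧸ J), linQ J (a • v) = C a * linQ J v := fun a v => by
      rw [linQ, LinearMap.restrictScalars_apply, LinearMap.restrictScalars_apply, map_smul, smul_eq_C_mul]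
    rw [map_lin, ← e2, ← e1, map_sum]
    simp only [lin, map_sum, map_mul, aeval_C, aeval_X, algebraMap_eq, e2]
  have h1 : C (π g ^ N) * (C ((π g ^ k) ^ n) * F) = 0 := by
    have := congrArg (aeval fun j => linQ J (ℓ j)) h0
    rw [map_zero, map_mul, aeval_C, algebraMap_eq, map_aeval', ← AlgHom.comp_apply, comp_aeval] at this
    refine Eq.trans ?_ this
    congr 1
    have hfun : (fun s => (aeval fun j => linQ J (ℓ j)) (MvPolynomial.map π (lin (c s)))) =
        fun s => C (π g ^ k) * linQ J (f (pres J x (Finsupp.single s 1))) := funext hsub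
    rw [hfun, aeval_C_mul_of_isHomogeneous (hP.map π)]
    rfl
  have h2 : g ^ (N + k * n) ∈ (Submodule.span R ({coeff e F} : Set (R ⧸ J))).annihilator := by
    rw [Submodule.mem_annihilator_span_singleton]
    have := congrArg (coeff e) h1
    rw [coeff_C_mul, coeff_C_mul, coeff_zero, ← mul_assoc, ← pow_mul, ← pow_add, ← map_pow] at this
    exact this
  exact hg (hM.isPrime.mem_of_pow_mem _ (hle h2))

theorem isLocallyQuasiRegular_iff :
    PP16.IsLocallyQuasiRegular R J ↔
      J.FG ∧ Module.Projective (R ⧸ J) J.Cotangent ∧ PP16.SymGrBijective R J := by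
  classical
  have hgen : ∀ hfg : J.FG, ∃ (σ : Type u) (_ : Fintype σ) (x : σ → J),
      Ideal.span (Set.range fun s => (x s : R)) = J := fun ⟨S, hS⟩ =>
    ⟨↥S, inferInstance, fun s => ⟨s.1, hS ▸ Ideal.subset_span s.2⟩, by
      rw [show (Set.range fun s : ↥S => (s.1 : R)) = (S : Set R) from Subtype.range_coe]; exact hS⟩
  constructor
  · intro h
    have hfg := fg_of_isLocallyQuasiRegular J h
    obtain ⟨σ, _, x, hxs⟩ := hgen hfg
    obtain ⟨f, hf⟩ := exists_section J x hxs h
    refine ⟨hfg, Module.Projective.of_split f (Finsupp.linearCombination (R ⧸ J) fun s => J.toCotangent (x s))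
      (LinearMap.ext hf), ?_⟩
    exact (symGrBijective_iff_qreg J (f := f.restrictScalars R) (r := pres J x) hf (fun s => (x s : R))
      (fun s => ⟨(x s).2, by simp [pres]⟩)).2 (qreg_of_local J x h f)
  · rintro ⟨hfg, hproj, hsym⟩ P _ hP
    obtain ⟨σ, _, x, hxs⟩ := hgen hfg
    have hsurj : Function.Surjective (Finsupp.linearCombination (R ⧸ J) fun s => J.toCotangent (x s)) := fun z => by
      obtain ⟨⟨a, ha⟩, rfl⟩ := J.toCotangent_surjective z
      have ha' : a ∈ Ideal.span (Set.range fun s => (x s : R)) := by rw [hxs]; exact ha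
      obtain ⟨c, rfl⟩ := exists_coeffs _ ha'
      refine ⟨Finsupp.equivFunOnFinite.symm fun s => Ideal.Quotient.mk J (c s), ?_⟩
      rw [toCotangent_sum J _ _ _ (fun s => (x s).2) ha, Finsupp.linearCombination_apply, Finsupp.sum_fintype]
      · rfl
      · exact fun s => zero_smul _ _
    obtain ⟨f, hf⟩ := Module.projective_lifting_property _ LinearMap.id hsurj
    have hrf : ∀ z, pres J x (f.restrictScalars R z) = z := fun z => LinearMap.congr_fun hf z
    exact exists_away_of_qreg J x hxs (f.restrictScalars R) hrf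
      ((symGrBijective_iff_qreg J hrf (fun s => (x s : R)) (fun s => ⟨(x s).2, by simp [pres]⟩)).1 hsym) P hP

end Groth.Agent.QRegIdeal
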